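import Mathlib
import Cfsg.Agent.Lib.Transfer.Frobenius
import Cfsg.Agent.Lib.Coprime.PGroup
import Cfsg.Agent.Solvable.Basics

/-!
# Central involutions and no non-central real 2-elements give a normal 2-complement

If the involutions of `G` are central and every element of a Sylow 2-subgroup `S` that is real in
`S` is central in `S`, then odd-order elements centralize the 2-subgroups they normalize.
-/

set_option autoImplicit false

namespace Cfsg.Agent.RealClassTwoPart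

open Subgroup
open scoped commutatorElement

variable {G : Type*} [Group G] [Finite G]

/-- in a minimal configuration the fixed points are central -/
theorem centralized_of_min {Q : Subgroup G} (hQ : IsPGroup 2 Q) {g : G}
    (hg : g ∈ normalizer (Q : Set G)) (hgodd : Odd (orderOf g))
    (hinvol : ∀ z : G, z ^ 2 = 1 → z ∈ center G)
    (hreal : ∀ u ∈ Q, ∀ v ∈ Q, v * u * v⁻¹ = u⁻¹ → v * u = u * v)
    (ih : ∀ R : Subgroup G, R < Q → g ∈ normalizer (R : Set G) → ∀ r ∈ R, g * r = r * g) :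
    ∀ q ∈ Q, g * q = q * g := by
  classical
  haveI : Fact (Nat.Prime 2) := ⟨Nat.prime_two⟩
  haveI := hQ.isNilpotent
  by_contra hcon
  push Not at hcon
  obtain ⟨q₁, hq₁, hq₁g⟩ := hcon
  set M : Subgroup G := Q ⊓ centralizer ({g} : Set G)
  have hMfix : ∀ m ∈ M, g * m * g⁻¹ = m := fun m hm => by
    rw [← mem_centralizer_singleton_iff.1 hm.2, mul_inv_cancel_right]
  have hconjQ : ∀ q ∈ Q, g * q * g⁻¹ ∈ Q := fun q hq => (mem_normalizer_iff.1 hg q).1 hq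
  -- invariant subgroups are either everything or fixed
  have hdich : ∀ R : Subgroup G, R ≤ Q → (∀ r ∈ R, g * r * g⁻¹ ∈ R) → (∃ r ∈ R, r ∉ M) →
      R = Q := by
    intro R hRQ hR hr
    by_contra hne
    obtain ⟨r, hr, hrM⟩ := hr
    exact hrM ⟨hRQ hr, mem_centralizer_singleton_iff.2
      (ih R (lt_of_le_of_ne hRQ hne) (mem_normalizer_fintype hR) r hr).symm⟩
  -- some commutator with `g` is not fixed
  have hexd : ∃ q ∈ Q, q⁻¹ * (g * q * g⁻¹) ∉ M := by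
    by_contra! hall
    set d := q₁⁻¹ * (g * q₁ * g⁻¹) with hd
    have hdg : g * d * g⁻¹ = d := hMfix d (hall q₁ hq₁)
    have hpow : ∀ n : ℕ, g ^ n * q₁ * (g ^ n)⁻¹ = q₁ * d ^ n := by
      intro n
      induction n with
      | zero => simp
      | succ n hn =>
        calc g ^ (n + 1) * q₁ * (g ^ (n + 1))⁻¹ = g * (g ^ n * q₁ * (g ^ n)⁻¹) * g⁻¹ := by
              rw [pow_succ']; group
          _ = g * q₁ * g⁻¹ * (g * d * g⁻¹) ^ n := by rw [hn, conj_pow]; group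
          _ = q₁ * d ^ (n + 1) := by
            rw [hdg, show g * q₁ * g⁻¹ = q₁ * d by rw [hd, mul_inv_cancel_left], pow_succ',
              mul_assoc]
    have h1 := hpow (orderOf g)
    rw [pow_orderOf_eq_one, one_mul, inv_one, mul_one, left_eq_mul] at h1
    obtain ⟨k, hk⟩ := hQ ⟨d, (hall q₁ hq₁).1⟩
    have hk' : d ^ 2 ^ k = 1 := congrArg Subtype.val hk
    have hd1 : d = 1 := by
      have h2 := (pow_gcd_eq_one (m := orderOf g) (n := 2 ^ k)).2 ⟨h1, hk'⟩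
      rwa [Nat.Coprime.pow_right k hgodd.coprime_two_right, pow_one] at h2
    refine hq₁g ?_
    rw [hd, inv_mul_eq_one] at hd1
    exact (mul_inv_eq_iff_eq_mul.1 hd1.symm)
  obtain ⟨q₀, hq₀, hd₀⟩ := hexd
  set d₀ := q₀⁻¹ * (g * q₀ * g⁻¹) with hd₀def
  have hd₀Q : d₀ ∈ Q := mul_mem (inv_mem hq₀) (hconjQ _ hq₀)
  -- the Frattini subgroup is fixed
  set F := (frattini Q).map Q.subtype
  have hFQ : F ≤ Q := map_subtype_le _
  haveI : Nontrivial Q := ⟨⟨q₁, hq₁⟩, 1, fun e => hq₁g (by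
    rw [show q₁ = 1 from congrArg Subtype.val e]; simp)⟩
  have hFinv : ∀ r ∈ F, g * r * g⁻¹ ∈ F := by
    rintro _ ⟨r, hr, rfl⟩
    let φ : Q ≃* Q :=
      { toFun := fun x => ⟨g * x * g⁻¹, hconjQ _ x.2⟩
        invFun := fun x => ⟨g⁻¹ * x * g, by
          simpa using (mem_normalizer_iff.1 (inv_mem hg) (x : G)).1 x.2⟩
        left_inv := fun x => Subtype.ext (by simp only; group)
        right_inv := fun x => Subtype.ext (by simp only; group)
        map_mul' := fun x y => Subtype.ext (by simp only [Subgroup.coe_mul]; group) }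
    have hchar : (frattini Q).map φ.toMonoidHom = frattini Q :=
      Subgroup.characteristic_iff_map_eq.1 inferInstance φ
    exact ⟨φ r, hchar ▸ ⟨r, hr, rfl⟩, rfl⟩
  have hFM : ∀ r ∈ F, r ∈ M := by
    intro r hr
    by_contra hrM
    have hFQ' : F = Q := hdich F hFQ hFinv ⟨r, hr, hrM⟩
    have : frattini Q = ⊤ := map_injective Q.subtype_injective (by
      rw [← MonoidHom.range_eq_map, range_subtype]; exact hFQ')
    obtain ⟨C, hC, -⟩ := (eq_top_or_exists_le_coatom (⊥ : Subgroup Q)).resolve_left bot_ne_top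
    exact hC.1 (top_le_iff.1 (this ▸ frattini_le_coatom hC))
  have hcomF : ∀ a ∈ Q, ∀ b ∈ Q, a * b * a⁻¹ * b⁻¹ ∈ F := fun a ha b hb =>
    ⟨⁅(⟨a, ha⟩ : Q), ⟨b, hb⟩⁆,
      Coprime.commutator_le_frattini Q (commutator_mem_commutator (mem_top _) (mem_top _)), rfl⟩
  have hsqF : ∀ a ∈ Q, a ^ 2 ∈ F := fun a ha =>
    ⟨(⟨a, ha⟩ : Q) ^ 2, Solvable.Basics.pow_mem_frattini hQ ⟨a, ha⟩, rfl⟩
  -- fixed points are central
  set c : G → G → G := fun a b => a * b * a⁻¹ * b⁻¹ with hc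
  have hcfix : ∀ a ∈ Q, ∀ b ∈ Q, c (g * a * g⁻¹) (g * b * g⁻¹) = c a b := fun a ha b hb => by
    have h1 := hMfix _ (hFM _ (hcomF a ha b hb))
    calc c (g * a * g⁻¹) (g * b * g⁻¹) = g * c a b * g⁻¹ := by simp only [hc]; group
      _ = c a b := h1
  have hMcen : ∀ m ∈ M, ∀ q ∈ Q, m * q = q * m := by
    intro m hm
    have hEinv : ∀ q ∈ Q, m * (q⁻¹ * (g * q * g⁻¹)) = q⁻¹ * (g * q * g⁻¹) * m := by
      intro q hq
      have h1 := hcfix m hm.1 q hq
      rw [hMfix m hm] at h1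
      simp only [hc] at h1
      set q' := g * q * g⁻¹
      have h2 : q' * m⁻¹ * q'⁻¹ = q * m⁻¹ * q⁻¹ := by
        simpa [mul_assoc] using h1
      have h3 : q⁻¹ * q' * m⁻¹ = m⁻¹ * (q⁻¹ * q') := by
        calc q⁻¹ * q' * m⁻¹ = q⁻¹ * (q' * m⁻¹ * q'⁻¹) * q' := by group
          _ = m⁻¹ * (q⁻¹ * q') := by rw [h2]; group
      calc m * (q⁻¹ * q') = m * (q⁻¹ * q' * m⁻¹) * m := by group
        _ = q⁻¹ * q' * m := by rw [h3]; group
    have hcen : Q ⊓ centralizer ({m} : Set G) = Q := by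
      refine hdich _ inf_le_left (fun r hr => ?_) ⟨d₀, ⟨hd₀Q, ?_⟩, hd₀⟩
      · refine ⟨hconjQ r hr.1, mem_centralizer_singleton_iff.2 ?_⟩
        calc g * r * g⁻¹ * m = g * r * g⁻¹ * (g * m * g⁻¹) := by rw [hMfix m hm]
          _ = g * (r * m) * g⁻¹ := by group
          _ = g * (m * r) * g⁻¹ := by rw [mem_centralizer_singleton_iff.1 hr.2]
          _ = (g * m * g⁻¹) * (g * r * g⁻¹) := by group
          _ = m * (g * r * g⁻¹) := by rw [hMfix m hm]
      · exact mem_centralizer_singleton_iff.2 (hEinv q₀ hq₀).symm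
    intro q hq
    exact (mem_centralizer_singleton_iff.1 (show q ∈ Q ⊓ centralizer ({m} : Set G) from hcen.symm ▸ hq).2).symm
  have hccen : ∀ a ∈ Q, ∀ b ∈ Q, ∀ q ∈ Q, c a b * q = q * c a b := fun a ha b hb q hq =>
    hMcen _ (hFM _ (hcomF a ha b hb)) q hq
  have hc_mul : ∀ a ∈ Q, ∀ a' ∈ Q, ∀ b ∈ Q, c (a * a') b = c a b * c a' b := by
    intro a ha a' ha' b hb
    calc c (a * a') b = a * c a' b * b * a⁻¹ * b⁻¹ := by simp only [hc]; group
      _ = c a' b * c a b := by rw [← hccen a' ha' b hb a ha]; simp only [hc]; group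
      _ = c a b * c a' b := by
        rw [hccen a' ha' b hb _ (mul_mem (mul_mem (mul_mem ha hb) (inv_mem ha)) (inv_mem hb))]
  have hc_sq : ∀ a ∈ Q, ∀ b ∈ Q, c a b ^ 2 = 1 := by
    intro a ha b hb
    rw [pow_two, ← hc_mul a ha a ha b hb, ← pow_two]
    simp only [hc]
    rw [hMcen _ (hFM _ (hsqF a ha)) b hb]
    group
  have hc_swap : ∀ a ∈ Q, ∀ b ∈ Q, c b a = c a b := by
    intro a ha b hb
    have h1 := hc_sq a ha b hb
    rw [pow_two, mul_eq_one_iff_eq_inv] at h1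
    rw [h1]
    simp only [hc]; group
  have hsq_mul : ∀ a ∈ Q, ∀ b ∈ Q, (a * b) ^ 2 = a ^ 2 * b ^ 2 * c a b := by
    intro a ha b hb
    calc (a * b) ^ 2 = a * (a * (c a⁻¹ b)) * b * b := by simp only [hc, pow_two]; group
      _ = a ^ 2 * b ^ 2 * c a⁻¹ b := by
        rw [pow_two, pow_two, show a * (a * c a⁻¹ b) * b * b = a * a * (c a⁻¹ b * (b * b)) by
          simp only [mul_assoc], hccen a⁻¹ (inv_mem ha) b hb (b * b) (mul_mem hb hb), ← mul_assoc]
      _ = _ := by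
        congr 1
        have h1 : c (a * a⁻¹) b = 1 := by simp only [hc]; group
        rw [hc_mul a ha a⁻¹ (inv_mem ha) b hb, mul_eq_one_iff_eq_inv] at h1
        have h2 := hc_sq a⁻¹ (inv_mem ha) b hb
        rw [pow_two, mul_eq_one_iff_eq_inv] at h2
        rw [h1]; exact h2
  -- squares are involutions
  let U : Subgroup G :=
    { carrier := {x | x ∈ Q ∧ (x ^ 2) ^ 2 = 1}
      one_mem' := ⟨one_mem _, by simp⟩
      mul_mem' := by
        rintro a b ⟨ha, ha2⟩ ⟨hb, hb2⟩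
        refine ⟨mul_mem ha hb, ?_⟩
        have hca : Commute (a ^ 2) (b ^ 2) := hMcen _ (hFM _ (hsqF a ha)) _ (pow_mem hb 2)
        have hcc : Commute (a ^ 2 * b ^ 2) (c a b) :=
          (hccen a ha b hb _ (mul_mem (pow_mem ha 2) (pow_mem hb 2))).symm
        rw [hsq_mul a ha b hb, hcc.mul_pow, hca.mul_pow, ha2, hb2, hc_sq a ha b hb, one_mul,
          one_mul]
      inv_mem' := by
        rintro a ⟨ha, ha2⟩
        exact ⟨inv_mem ha, by rw [inv_pow, inv_pow, ha2, inv_one]⟩ }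
  have hd₀sq : d₀ ^ 2 = c q₀⁻¹ (g * q₀ * g⁻¹) := by
    rw [hd₀def, hsq_mul _ (inv_mem hq₀) _ (hconjQ _ hq₀), conj_pow,
      hMfix _ (hFM _ (hsqF q₀ hq₀)), inv_pow, inv_mul_cancel, one_mul]
  have hUQ : U = Q := by
    refine hdich U (fun x hx => hx.1) (fun r hr => ⟨hconjQ r hr.1, ?_⟩) ⟨d₀, ⟨hd₀Q, ?_⟩, hd₀⟩
    · rw [conj_pow, conj_pow, hr.2, mul_one, mul_inv_cancel]
    · rw [hd₀sq]; exact hc_sq _ (inv_mem hq₀) _ (hconjQ _ hq₀)
  -- a real element
  have hu0 : d₀ ^ 2 ≠ 1 := fun e => hd₀ ⟨hd₀Q, mem_centralizer_singleton_iff.2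
    (mem_center_iff.1 (hinvol d₀ e) g).symm⟩
  by_cases hv : ∃ v ∈ Q, c v d₀ = d₀ ^ 2
  · obtain ⟨v, hv, hvd⟩ := hv
    have h1 : d₀ ^ 2 = (d₀ ^ 2)⁻¹ := eq_inv_of_mul_eq_one_left (by
      rw [← pow_two]; exact ((show d₀ ∈ U from hUQ.symm ▸ hd₀Q).2))
    have h2 : v * d₀ * v⁻¹ = d₀⁻¹ := by
      have h3 : v * d₀ * v⁻¹ = c v d₀ * d₀ := by simp only [hc]; group
      rw [h3, hvd, h1]
      group
    have h3 := hreal d₀ hd₀Q v hv h2
    rw [h3, mul_inv_cancel_right] at h2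
    exact hu0 (by rw [pow_two]; nth_rw 2 [h2]; exact mul_inv_cancel d₀)
  push Not at hv
  -- a subgroup missing the square
  let W : Subgroup G :=
    { carrier := {x | ∃ v ∈ Q, c v d₀ = x}
      one_mem' := ⟨1, one_mem _, by simp only [hc]; group⟩
      mul_mem' := by
        rintro _ _ ⟨v, hv, rfl⟩ ⟨w, hw, rfl⟩
        exact ⟨v * w, mul_mem hv hw, hc_mul v hv w hw d₀ hd₀Q⟩
      inv_mem' := by
        rintro _ ⟨v, hv, rfl⟩
        refine ⟨v, hv, eq_inv_of_mul_eq_one_left ?_⟩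
        rw [← pow_two]; exact hc_sq v hv d₀ hd₀Q }
  have hWD : ∀ x ∈ W, x ∈ M ∧ x ^ 2 = 1 := by
    rintro _ ⟨v, hv, rfl⟩
    exact ⟨hFM _ (hcomF v hv d₀ hd₀Q), hc_sq v hv d₀ hd₀Q⟩
  have hWc : d₀ ^ 2 ∉ W := fun ⟨v, hv', e⟩ => hv v hv' e
  let R : Subgroup G :=
    { carrier := {x | x ∈ Q ∧ ∀ v ∈ Q, c x v ∈ W}
      one_mem' := ⟨one_mem _, fun v _ => by
        have : c 1 v = 1 := by simp only [hc]; group
        rw [this]; exact one_mem _⟩
      mul_mem' := fun {a b} ha hb => ⟨mul_mem ha.1 hb.1, fun v hv => by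
        rw [hc_mul a ha.1 b hb.1 v hv]; exact mul_mem (ha.2 v hv) (hb.2 v hv)⟩
      inv_mem' := fun {a} ha => ⟨inv_mem ha.1, fun v hv => by
        have h1 : c (a * a⁻¹) v = 1 := by simp only [hc]; group
        rw [hc_mul a ha.1 a⁻¹ (inv_mem ha.1) v hv] at h1
        rw [eq_inv_of_mul_eq_one_right h1]
        exact inv_mem (ha.2 v hv)⟩ }
  have hRQ : R = Q := by
    refine hdich R (fun x hx => hx.1) (fun r hr => ⟨hconjQ r hr.1, fun v hv' => ?_⟩)
      ⟨d₀, ⟨hd₀Q, fun v hv' => ⟨v, hv', hc_swap d₀ hd₀Q v hv'⟩⟩, hd₀⟩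
    have hv2 : g⁻¹ * v * g ∈ Q := by simpa using (mem_normalizer_iff.1 (inv_mem hg) v).1 hv'
    have h1 := hcfix r hr.1 _ hv2
    rw [show g * (g⁻¹ * v * g) * g⁻¹ = v by group] at h1
    rw [h1]
    exact hr.2 _ hv2
  have hcY : ∀ a ∈ Q, ∀ b ∈ Q, c a b ∈ W := fun a ha b hb =>
    (show a ∈ R from hRQ.symm ▸ ha).2 b hb
  let K : Subgroup G :=
    { carrier := {x | x ∈ Q ∧ x ^ 2 ∈ W}
      one_mem' := ⟨one_mem _, by simp⟩
      mul_mem' := fun {a b} ha hb => ⟨mul_mem ha.1 hb.1, by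
        rw [hsq_mul a ha.1 b hb.1]; exact mul_mem (mul_mem ha.2 hb.2) (hcY a ha.1 b hb.1)⟩
      inv_mem' := fun {a} ha => ⟨inv_mem ha.1, by rw [inv_pow]; exact inv_mem ha.2⟩ }
  have hKQ : K = Q := by
    refine hdich K (fun x hx => hx.1) (fun r hr => ⟨hconjQ r hr.1, ?_⟩)
      ⟨d₀, ⟨hd₀Q, ?_⟩, hd₀⟩
    · rw [conj_pow, hMfix _ (hWD _ hr.2).1]; exact hr.2
    · rw [hd₀sq]; exact hcY _ (inv_mem hq₀) _ (hconjQ _ hq₀)
  exact hWc (show d₀ ∈ K from hKQ.symm ▸ hd₀Q).2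

end Cfsg.Agent.RealClassTwoPart
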