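import Mathlib
import Cfsg.Agent.Lib.RealClassTwoPart.Condition
import Cfsg.Agent.Lib.ClassSizeCoprime.Main

/-!
# Real classes with equal 2-part and central real 2-elements

Either all involutions are central, and Frobenius' criterion applies, or a non-central involution
forces every real class size to be odd, so there are no non-trivial real elements of odd order
and Baer–Suzuki makes `G / O₂(G)` a group of odd order.
-/

set_option autoImplicit false

namespace Cfsg.Agent.RealClassTwoPart

open Subgroup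

universe u

variable {G : Type*} [Group G] [Finite G]

/-- a real element of a 2-subgroup with real witness in that subgroup commutes with it -/
theorem commute_of_inverted (S : Sylow 2 G)
    (hS : ∀ s : ↥(S : Subgroup G), IsConj s s⁻¹ → s ∈ center ↥(S : Subgroup G))
    {Q : Subgroup G} (hQ : IsPGroup 2 Q) :
    ∀ u ∈ Q, ∀ v ∈ Q, v * u * v⁻¹ = u⁻¹ → v * u = u * v := by
  haveI : Fact (Nat.Prime 2) := ⟨Nat.prime_two⟩
  intro u hu v hv h
  obtain ⟨R, hR⟩ := hQ.exists_le_sylow
  obtain ⟨c, hc⟩ := MulAction.exists_smul_eq G R S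
  have hmem : ∀ x ∈ Q, c * x * c⁻¹ ∈ (S : Subgroup G) := fun x hx => by
    rw [← hc, Sylow.coe_subgroup_smul]
    exact ⟨x, hR hx, rfl⟩
  have hcen := hS ⟨_, hmem u hu⟩ (isConj_iff.2 ⟨⟨_, hmem v hv⟩, Subtype.ext (by
    show c * v * c⁻¹ * (c * u * c⁻¹) * (c * v * c⁻¹)⁻¹ = (c * u * c⁻¹)⁻¹
    rw [show (c * u * c⁻¹)⁻¹ = c * u⁻¹ * c⁻¹ by group, ← h]
    group)⟩)
  have h1 : c * v * c⁻¹ * (c * u * c⁻¹) = c * u * c⁻¹ * (c * v * c⁻¹) :=
    congrArg Subtype.val (mem_center_iff.1 hcen ⟨_, hmem v hv⟩)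
  calc v * u = c⁻¹ * (c * v * c⁻¹ * (c * u * c⁻¹)) * c := by group
    _ = c⁻¹ * (c * u * c⁻¹ * (c * v * c⁻¹)) * c := by rw [h1]
    _ = u * v := by group

/-- with central involutions Frobenius' criterion holds -/
theorem condition_of_central (S : Sylow 2 G)
    (hS : ∀ s : ↥(S : Subgroup G), IsConj s s⁻¹ → s ∈ center ↥(S : Subgroup G))
    (hinvol : ∀ z : G, z ^ 2 = 1 → z ∈ center G) : Transfer.Frobenius.Condition 2 G := by
  intro Q hQ g hg ho
  have hodd : Odd (orderOf g) := Nat.coprime_two_right.1 ho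
  suffices ∀ q ∈ Q, g * q = q * g from fun q hq => (this q hq).symm
  clear ho
  induction Q using WellFoundedLT.induction with
  | _ Q ih =>
    exact centralized_of_min hQ hg hodd hinvol (commute_of_inverted S hS hQ)
      fun R hR hgR => ih R hR (hQ.to_le hR.le) hgR

/-- an element inverted by a conjugation and not central has even class size -/
theorem two_dvd_index {x t : G} (h : t * x * t⁻¹ = x⁻¹) (hx : x ^ 2 ≠ 1) :
    2 ∣ (centralizer ({x} : Set G)).index := by
  classical
  set C := centralizer ({x} : Set G)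
  set N := normalizer (C : Set G)
  have ht : t ∈ N := by
    refine mem_normalizer_fintype fun y hy => ?_
    have hy' : y * x = x * y := mem_centralizer_singleton_iff.1 hy
    have h3 : t * x⁻¹ * t⁻¹ = x := by
      rw [show t * x⁻¹ * t⁻¹ = (t * x * t⁻¹)⁻¹ by group, h, inv_inv]
    refine mem_centralizer_singleton_iff.2 ?_
    calc t * y * t⁻¹ * x = t * y * t⁻¹ * (t * x⁻¹ * t⁻¹) := by rw [h3]
      _ = t * (y * x⁻¹) * t⁻¹ := by group
      _ = t * (x⁻¹ * y) * t⁻¹ := by rw [(show Commute y x from hy').inv_right.eq]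
      _ = t * x⁻¹ * t⁻¹ * (t * y * t⁻¹) := by group
      _ = x * (t * y * t⁻¹) := by rw [h3]
  haveI : (C.subgroupOf N).Normal := normal_in_normalizer
  set q : N ⧸ C.subgroupOf N := QuotientGroup.mk' _ ⟨t, ht⟩
  have h2 : orderOf q = 2 := by
    refine orderOf_eq_prime ?_ ?_
    · rw [← map_pow]
      refine (QuotientGroup.eq_one_iff _).2 (mem_centralizer_singleton_iff.2 ?_)
      show t ^ 2 * x = x * t ^ 2
      refine mul_inv_eq_iff_eq_mul.1 ?_
      calc t ^ 2 * x * (t ^ 2)⁻¹ = t * (t * x * t⁻¹) * t⁻¹ := by rw [pow_two]; group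
        _ = t * x⁻¹ * t⁻¹ := by rw [h]
        _ = (t * x * t⁻¹)⁻¹ := by group
        _ = x := by rw [h, inv_inv]
    · intro e
      have h1 : t * x = x * t :=
        mem_centralizer_singleton_iff.1 (mem_subgroupOf.1 ((QuotientGroup.eq_one_iff _).1 e))
      rw [h1, mul_inv_cancel_right] at h
      refine hx ?_
      rw [pow_two]
      nth_rw 1 [h]
      exact inv_mul_cancel x
  have h3 : 2 ∣ C.relIndex N := h2 ▸ orderOf_dvd_natCard q
  exact h3.trans (relIndex_dvd_index_of_le le_normalizer)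

variable (hFT : ∀ (H : Type u) [Group H] [Finite H], Odd (Nat.card H) → Group.IsSolvable H)

include hFT in
/-- a group with a normal 2-complement is solvable, granting the odd order theorem -/
theorem solvable_of_normalComplement {G : Type u} [Group G] [Finite G]
    (h : Cfsg.HasNormalPComplement 2 G) : Group.IsSolvable G := by
  haveI : Fact (Nat.Prime 2) := ⟨Nat.prime_two⟩
  obtain ⟨P, N, hN, hNP⟩ := h
  haveI := hN
  have hPN := hNP.symm
  refine (Group.isSolvable_iff_subgroup_quotient N).2 ⟨hFT N ?_, ?_⟩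
  · have h1 : Nat.card N = (P : Subgroup G).index := hNP.index_eq_card.symm
    rw [h1]
    exact Nat.not_even_iff_odd.1 fun e => P.not_dvd_index e.two_dvd
  · obtain ⟨k, hk⟩ := IsPGroup.iff_card.1 P.2
    have h1 : IsPGroup 2 (G ⧸ N) := IsPGroup.of_card (n := k) (by
      rw [← index_eq_card, hPN.index_eq_card, hk])
    haveI := h1.isNilpotent
    infer_instance

include hFT in
/-- equal 2-parts of real class sizes and central real elements in a Sylow 2-subgroup -/
theorem main {G : Type u} [Group G] [Finite G] (a : ℕ)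
    (h : ∀ x : G, IsConj x x⁻¹ → x ∉ center G →
      ((centralizer ({x} : Set G)).index).factorization 2 = a)
    (S : Sylow 2 G) (hS : ∀ s : ↥(S : Subgroup G), IsConj s s⁻¹ → s ∈ center ↥(S : Subgroup G)) :
    Group.IsSolvable G ∧
      Cfsg.HasNormalPComplement 2 ↥(closure {g : G | ∃ k : ℕ, orderOf g = 2 ^ k}) := by
  classical
  haveI : Fact (Nat.Prime 2) := ⟨Nat.prime_two⟩
  by_cases hz : ∀ z : G, z ^ 2 = 1 → z ∈ center G
  · have hN := Transfer.Frobenius.hasNormalPComplement_of_condition (condition_of_central S hS hz)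
    exact ⟨solvable_of_normalComplement hFT hN,
      Transfer.NormalPComplement.HasNormalPComplement.subgroup hN _⟩
  push Not at hz
  obtain ⟨z₀, hz₀, hz₀c⟩ := hz
  -- a conjugate of the involution in the Sylow subgroup is central in it
  have hzp : IsPGroup 2 (zpowers z₀) := fun x => ⟨1, by
    obtain ⟨i, hi⟩ := x.2
    refine Subtype.ext ?_
    rw [pow_one, SubmonoidClass.coe_pow, ← hi]
    show (z₀ ^ i) ^ 2 = 1
    rw [← zpow_natCast, ← zpow_mul, mul_comm, zpow_mul, zpow_natCast, hz₀, one_zpow]⟩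
  obtain ⟨R, hR⟩ := hzp.exists_le_sylow
  obtain ⟨c, hc⟩ := MulAction.exists_smul_eq G R S
  set z := c * z₀ * c⁻¹
  have hzS : z ∈ (S : Subgroup G) := by
    rw [← hc, Sylow.coe_subgroup_smul]
    exact ⟨z₀, hR (mem_zpowers z₀), rfl⟩
  have hz2 : z⁻¹ = z := inv_eq_of_mul_eq_one_right (by
    rw [← pow_two, conj_pow, hz₀, mul_one, mul_inv_cancel])
  have hzc : z ∉ center G := fun e => hz₀c (by
    have h1 : z₀ = c⁻¹ * z * c := by simp only [z]; group
    rwa [h1, mul_assoc, ← mem_center_iff.1 e c, inv_mul_cancel_left])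
  have hzcen := hS ⟨z, hzS⟩ (by
    rw [show (⟨z, hzS⟩ : (S : Subgroup G))⁻¹ = ⟨z, hzS⟩ from Subtype.ext hz2])
  have ha : a = 0 := by
    rw [← h z (by rw [hz2]) hzc]
    refine Nat.factorization_eq_zero_of_not_dvd fun h2 => S.not_dvd_index (h2.trans ?_)
    refine index_dvd_of_le fun s hs => mem_centralizer_singleton_iff.2 ?_
    exact congrArg Subtype.val (mem_center_iff.1 hzcen ⟨s, hs⟩)
  have hnoreal : ∀ x t : G, Odd (orderOf x) → x ≠ 1 → t * x * t⁻¹ ≠ x⁻¹ := by
    intro x t hodd hx1 htx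
    have hx2 : x ^ 2 ≠ 1 := fun e => by
      rcases (Nat.dvd_prime Nat.prime_two).1 (orderOf_dvd_of_pow_eq_one e) with h1 | h1
      · exact hx1 (orderOf_eq_one_iff.1 h1)
      · rw [h1] at hodd; exact absurd hodd (by decide)
    have hxc : x ∉ center G := fun e => hx2 (by
      have h1 : x = x⁻¹ := by rw [← htx, mem_center_iff.1 e t, mul_inv_cancel_right]
      rw [pow_two]
      nth_rw 1 [h1]
      exact inv_mul_cancel x)
    have h2 := Nat.Prime.factorization_pos_of_dvd Nat.prime_two
      (index_ne_zero_of_finite) (two_dvd_index htx hx2)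
    rw [h x (isConj_iff.2 ⟨t, htx⟩) hxc, ha] at h2
    exact lt_irrefl 0 h2
  -- the quotient by the 2-core has odd order
  set P := Cfsg.pCore 2 G
  have hP2 : IsPGroup 2 P := Cores.pCore_isPGroup 2
  have hodd : Odd (Nat.card (G ⧸ P)) := by
    by_contra hev
    obtain ⟨v, hv⟩ := exists_prime_orderOf_dvd_card' (G := G ⧸ P) 2
      (Nat.not_odd_iff_even.1 hev).two_dvd
    obtain ⟨w, hw1, hwodd, hwinv⟩ :=
      Involutions.BaerSuzuki.exists_inverted_odd v hv fun N hN hN2 hvN => by
        haveI := hN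
        have hle : N.comap (QuotientGroup.mk' P) ≤ P := by
          refine Cores.le_pCore (hN2.comap_of_ker_isPGroup _ ?_)
          rw [QuotientGroup.ker_mk']
          exact hP2
        obtain ⟨g, rfl⟩ := QuotientGroup.mk'_surjective P v
        rw [show QuotientGroup.mk' P g = 1 from (QuotientGroup.eq_one_iff g).2 (hle hvN),
          orderOf_one] at hv
        omega
    obtain ⟨r, hr, hrw⟩ := Nat.exists_prime_and_dvd (fun e => hw1 (orderOf_eq_one_iff.1 e))
    have hr2 : r ≠ 2 := by
      rintro rfl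
      exact (Nat.not_even_iff_odd.2 hwodd) (even_iff_two_dvd.2 hrw)
    obtain ⟨x, t, m, hx, -, hxt⟩ := ClassSizeCoprime.lift_pair P hP2 (u := w ^ (orderOf w / r))
      (v := v) hr hr2 (orderOf_pow_orderOf_div (orderOf_pos w).ne' hrw) hv
      (by rw [← conj_pow, hwinv, inv_pow])
    refine hnoreal x t (hx ▸ hr.odd_of_ne_two hr2) (fun e => ?_) hxt
    rw [e, orderOf_one] at hx
    exact hr.ne_one hx.symm
  haveI : Group.IsSolvable P := by
    haveI := hP2.isNilpotent
    infer_instance
  refine ⟨(Group.isSolvable_iff_subgroup_quotient P).2 ⟨inferInstance, hFT _ hodd⟩, ?_⟩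
  have hle : closure {g : G | ∃ k : ℕ, orderOf g = 2 ^ k} ≤ P := by
    rw [closure_le]
    rintro g ⟨k, hk⟩
    refine (QuotientGroup.eq_one_iff g).1 (orderOf_eq_one_iff.1 ?_)
    refine Nat.eq_one_of_dvd_coprimes (Nat.Coprime.pow_left k hodd.coprime_two_left)
      (hk ▸ orderOf_map_dvd (QuotientGroup.mk' P) g) (orderOf_dvd_natCard _)
  exact Transfer.NormalPComplement.hasNormalPComplement_of_isPGroup (hP2.to_le hle)

end Cfsg.Agent.RealClassTwoPart
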